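import Cfsg.Agent.Cover98.Sp3.Model

/-!
All self-adjoint roots of `X³ - X + b` are conjugate in `Sp₆` (helper98, S2500).
-/

set_option autoImplicit false

namespace Cfsg.Agent.Cover98.Sp3

open Polynomial Cfsg.Agent.Symplectic Cfsg.Agent.Forms

variable {F : Type*} [Field F]

local notation "V" => Vec 3 F
local notation "G" => Sp 3 F
local notation "B" => sympBilin 3 F

/-- A linear map from a bilinear-form preserving map. -/
theorem exists_sp (f : Module.End F V) (hf : ∀ x y, B (f x) (f y) = B x y) :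
    ∃ g : G, ∀ v : V, g • v = f v := by
  refine ⟨⟨LinearMap.toMatrix' f, ?_⟩, fun v => ?_⟩
  · rw [mem_iff_form]
    intro u v
    rw [LinearMap.toMatrix'_mulVec, LinearMap.toMatrix'_mulVec, ← sympBilin_apply,
      ← sympBilin_apply, hf]
  · rw [smul_eq]
    exact LinearMap.toMatrix'_mulVec _ _

/-- The polynomial `X³ - X + b`. -/
noncomputable def cubic (b : F) : F[X] := X ^ 3 - X + C b

theorem cubic_irreducible {b : F} (hb : ∀ x : F, x ^ 3 - x + b ≠ 0) : Irreducible (cubic b) := by
  have hd : (cubic b).natDegree = 3 := by unfold cubic; compute_degree!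
  have hm : (cubic b).Monic := by unfold cubic; monicity!
  rw [hm.irreducible_iff_roots_eq_zero_of_degree_le_three (by omega) (by omega)]
  refine Multiset.eq_zero_of_forall_notMem fun x hx => hb x ?_
  have := isRoot_of_mem_roots hx
  simpa [cubic] using this

theorem cubic_degree (b : F) : (cubic b).natDegree = 3 := by unfold cubic; compute_degree!

theorem aeval_cubic (b : F) (θ : Module.End F V) (x : V) :
    aeval θ (cubic b) x = θ (θ (θ x)) - θ x + b • x := by
  simp [cubic, pow_succ', Module.End.mul_apply, Module.algebraMap_end_apply]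

/-- The first three iterates of a vector are independent. -/
theorem iterate_injective {f : F[X]} (hf : Irreducible f) (hd : f.natDegree = 3)
    {θ : Module.End F V} (h0 : aeval θ f = 0) {x : V} (hx : x ≠ 0) (a : Fin 3 → F)
    (ha : a 0 • x + a 1 • θ x + a 2 • θ (θ x) = 0) : a = 0 := by
  set r : F[X] := C (a 2) * X ^ 2 + C (a 1) * X + C (a 0) with hr
  have hrx : aeval θ r x = 0 := by
    rw [← ha, hr]
    simp [sq, Module.End.mul_apply, Module.algebraMap_end_apply]
    abel
  by_cases hr0 : r = 0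
  · have e0 := congrArg (fun p : F[X] => p.coeff 0) hr0
    have e1 := congrArg (fun p : F[X] => p.coeff 1) hr0
    have e2 := congrArg (fun p : F[X] => p.coeff 2) hr0
    simp [hr, coeff_X] at e0 e1 e2
    funext i; fin_cases i <;> simpa
  · exfalso
    have hndvd : ¬ f ∣ r := fun h => by
      have := natDegree_le_of_dvd h hr0
      have : r.natDegree ≤ 2 := natDegree_quadratic_le
      omega
    obtain ⟨u, v, huv⟩ := (hf.coprime_iff_not_dvd).2 hndvd
    have := congrArg (fun p : F[X] => aeval θ p x) huv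
    simp only [map_add, map_mul, LinearMap.add_apply, Module.End.mul_apply, hrx, h0,
      LinearMap.zero_apply, map_zero, mul_zero, add_zero, map_one] at this
    exact hx this.symm

/-- The frame of a cyclic pair. -/
def frame (θ : Module.End F V) (x y : V) : Module.End F V where
  toFun c := c (Sum.inl 0) • x + c (Sum.inl 1) • θ x + c (Sum.inl 2) • θ (θ x) +
    (c (Sum.inr 0) • y + c (Sum.inr 1) • θ y + c (Sum.inr 2) • θ (θ y))
  map_add' c d := by simp only [Pi.add_apply, add_smul]; abel
  map_smul' r c := by simp only [Pi.smul_apply, smul_eq_mul, RingHom.id_apply, smul_add, smul_smul]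

/-- The pairing of the frame. -/
def pair (a c : Fin 3 → F) : F := a 0 * c 2 + a 1 * c 1 + a 2 * c 0 + a 2 * c 2

/-- The companion action on coordinates. -/
def comp' (b : F) (c : V) : V :=
  Sum.elim ![-(b * c (Sum.inl 2)), c (Sum.inl 0) + c (Sum.inl 2), c (Sum.inl 1)]
    ![-(b * c (Sum.inr 2)), c (Sum.inr 0) + c (Sum.inr 2), c (Sum.inr 1)]

theorem exists_frame [CharP F 3] {b : F} (hb : ∀ x : F, x ^ 3 - x + b ≠ 0) {θ : Module.End F V}
    (hs : SA θ) (hc : ∀ x, θ (θ (θ x)) - θ x + b • x = 0) :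
    ∃ x y : V,
      (∀ c d : V, B (frame θ x y c) (frame θ x y d) =
        pair (fun i => c (Sum.inl i)) (fun i => d (Sum.inr i)) -
          pair (fun i => d (Sum.inl i)) (fun i => c (Sum.inr i))) ∧
      ∀ c : V, θ (frame θ x y c) = frame θ x y (comp' b c) := by
  set x : V := eI 0
  have hirr := cubic_irreducible hb
  have h0 : aeval θ (cubic b) = 0 := LinearMap.ext fun v => by
    rw [aeval_cubic, hc, LinearMap.zero_apply]
  let ι : (Fin 3 → F) →ₗ[F] V :=
    (LinearMap.proj 0).smulRight x + (LinearMap.proj 1).smulRight (θ x) +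
      (LinearMap.proj 2).smulRight (θ (θ x))
  have hι : LinearMap.ker ι = ⊥ := LinearMap.ker_eq_bot'.2 fun a ha =>
    iterate_injective hirr (cubic_degree b) h0 (eI_ne_zero 0) a ha
  obtain ⟨L, hL⟩ := ι.exists_leftInverse_of_injective hι
  let l : Module.Dual F V := (LinearMap.proj 2 : (Fin 3 → F) →ₗ[F] F) ∘ₗ L
  set y : V := -((B).toDual sympBilin_nondegenerate).symm l with hy
  have hyl : ∀ v, B v y = l v := fun v => by
    rw [hy, map_neg, ← LinearMap.BilinForm.apply_toDual_symm_apply
      (hB := sympBilin_nondegenerate) l v]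
    rw [B_swap, neg_neg]
  have hl : ∀ a : Fin 3 → F, l (a 0 • x + a 1 • θ x + a 2 • θ (θ x)) = a 2 := fun a => by
    show L (ι a) 2 = _
    exact congrFun (LinearMap.congr_fun hL a) 2
  have r0 : B x y = 0 := by
    rw [hyl]; simpa using hl ![1, 0, 0]
  have r1 : B (θ x) y = 0 := by
    rw [hyl]; simpa using hl ![0, 1, 0]
  have r2 : B (θ (θ x)) y = 1 := by
    rw [hyl]; simpa using hl ![0, 0, 1]
  have h3 : ∀ v, θ (θ (θ v)) = θ v - b • v := fun v => by
    have := hc v
    rw [← sub_eq_zero]
    linear_combination (norm := module) this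
  have hs' : ∀ u v, B u (θ v) = B (θ u) v := fun u v => (hs u v).symm
  refine ⟨x, y, fun c d => ?_, fun c => ?_⟩
  · have ti : ∀ z : V, B (θ z) z = 0 := fun z => hs.alt z
    have ti2 : ∀ z : V, B (θ (θ z)) z = 0 := fun z => by rw [hs, B_self]
    have ti2x : ∀ z : V, B z (θ (θ z)) = 0 := fun z => by rw [hs', B_self]
    have ti1x : ∀ z : V, B z (θ z) = 0 := fun z => by rw [hs', ti]
    have r0' : B y x = 0 := by rw [B_swap, r0, neg_zero]
    have r1' : B (θ y) x = 0 := by rw [hs, B_swap, r1, neg_zero]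
    have r2' : B (θ (θ y)) x = -1 := by rw [hs, hs, B_swap, r2]
    simp only [frame, LinearMap.coe_mk, AddHom.coe_mk, map_add, map_smul, LinearMap.add_apply,
      LinearMap.smul_apply, smul_eq_mul, hs', h3, map_sub, LinearMap.sub_apply, B_self, ti, ti2,
      ti1x, ti2x, r0, r1, r2, r0', r1', r2', pair]
    ring
  · simp only [frame, comp', LinearMap.coe_mk, AddHom.coe_mk, map_add, map_smul, h3,
      Sum.elim_inl, Sum.elim_inr, Matrix.cons_val_zero, Matrix.cons_val_one, Matrix.cons_val]
    module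

theorem frame_injective {θ : Module.End F V} {x y : V}
    (hg : ∀ c d : V, B (frame θ x y c) (frame θ x y d) =
        pair (fun i => c (Sum.inl i)) (fun i => d (Sum.inr i)) -
          pair (fun i => d (Sum.inl i)) (fun i => c (Sum.inr i))) :
    Function.Injective (frame θ x y) := by
  rw [injective_iff_map_eq_zero]
  intro c hc
  have h : ∀ d : V, pair (fun i => c (Sum.inl i)) (fun i => d (Sum.inr i)) -
      pair (fun i => d (Sum.inl i)) (fun i => c (Sum.inr i)) = 0 := fun d => by
    rw [← hg, hc]; simp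
  have a0 := h (fI 0); have a1 := h (fI 1); have a2 := h (fI 2)
  have c0 := h (eI 0); have c1 := h (eI 1); have c2 := h (eI 2)
  simp [pair, eI, fI, Pi.single_apply] at a0 a1 a2 c0 c1 c2
  funext i
  rcases i with i | i <;> fin_cases i <;> simp <;> grind

theorem exists_conj_twist [CharP F 3] {b : F} (hb : ∀ x : F, x ^ 3 - x + b ≠ 0) {g : G}
    (h : Twisted b g) : ∃ x : G, x * g * x⁻¹ ∈ twistGroup b := by
  obtain ⟨θ, hs, hc, i, hi, hg⟩ := h
  obtain ⟨x₁, y₁, hf₁, hθ₁⟩ := exists_frame hb hs hc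
  obtain ⟨x₀, y₀, hf₀, hθ₀⟩ := exists_frame hb (root0_sa b) (root0_cubic b)
  let e := LinearEquiv.ofInjectiveEndo _ (frame_injective hf₀)
  have he : ∀ c, e c = frame (root0 b) x₀ y₀ c := fun c => rfl
  let ψ : Module.End F V := frame θ x₁ y₁ ∘ₗ e.symm.toLinearMap
  have hψ : ∀ u v, B (ψ u) (ψ v) = B u v := fun u v => by
    show B (frame θ x₁ y₁ (e.symm u)) (frame θ x₁ y₁ (e.symm v)) = _
    rw [hf₁, ← hf₀, ← he, ← he, e.apply_symm_apply, e.apply_symm_apply]
  have hψθ : ∀ v, ψ (root0 b v) = θ (ψ v) := fun v => by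
    show frame θ x₁ y₁ (e.symm (root0 b v)) = θ (frame θ x₁ y₁ (e.symm v))
    rw [hθ₁]
    congr 1
    rw [LinearEquiv.symm_apply_eq, he, ← hθ₀, ← he, e.apply_symm_apply]
  obtain ⟨p, hp⟩ := exists_sp ψ hψ
  refine ⟨p⁻¹, i, hi, fun v => ?_⟩
  rw [inv_inv, mul_smul, mul_smul, mul_smul, mul_smul]
  apply MulAction.injective p
  show p • root0 b (p⁻¹ • g • p • v) = p • (p⁻¹ • g • p • root0 b v + i • p⁻¹ • g • p • v)
  rw [smul_add, smul_inv_smul, smul_comm p i, smul_inv_smul, hp, hψθ, ← hp, smul_inv_smul, hg,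
    hp (root0 b v), hψθ, ← hp]

end Cfsg.Agent.Cover98.Sp3
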