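import Cfsg.Agent.Cover98.Sp3.Tools

/-!
The model: a self-adjoint root of `X³ - X + b`, the group `Sp₂(q³).3` and its two regular
unipotent elements (helper98, S2500).
-/

set_option autoImplicit false

namespace Cfsg.Agent.Cover98.Sp3

open Cfsg.Agent.Symplectic Cfsg.Agent.Forms

variable {F : Type*} [Field F]

local notation "V" => Vec 3 F
local notation "G" => Sp 3 F
local notation "B" => sympBilin 3 F

section Mop

variable {W : Type*} [AddCommGroup W] [Module F W]

/-- The symmetric matrix `diag(0,1,2) + bJ`. -/
def mop (b : F) : (Fin 3 → W) →ₗ[F] (Fin 3 → W) where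
  toFun a i := ((i : ℕ) : F) • a i + b • (a 0 + a 1 + a 2)
  map_add' a c := by funext i; simp [smul_add]; module
  map_smul' r a := by funext i; simp [smul_add]; module

/-- The cyclic shift. -/
def rot : (Fin 3 → W) →ₗ[F] (Fin 3 → W) where
  toFun a i := a (i - 1)
  map_add' _ _ := rfl
  map_smul' _ _ := rfl

theorem mop_apply (b : F) (a : Fin 3 → W) (i : Fin 3) :
    mop b a i = ((i : ℕ) : F) • a i + b • (a 0 + a 1 + a 2) := rfl

theorem rot_apply (a : Fin 3 → W) (i : Fin 3) : rot (F := F) a i = a (i - 1) := rfl

theorem rot_rot_rot (a : Fin 3 → W) : rot (F := F) (rot (F := F) (rot (F := F) a)) = a := by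
  funext i
  fin_cases i <;> rfl

variable [CharP F 3]

theorem three_eq_zero : (3 : F) = 0 := by
  have := CharP.cast_eq_zero F 3
  exact_mod_cast this

theorem mop_cubic (b : F) (a : Fin 3 → W) :
    mop b (mop b (mop b a)) - mop b a + b • a = 0 := by
  have h3 := three_eq_zero (F := F)
  funext i
  fin_cases i <;> simp [mop_apply] <;> match_scalars <;> grind

theorem mop_rot (b : F) (a : Fin 3 → W) :
    mop b (rot (F := F) a) = rot (F := F) (mop b a) + rot (F := F) a := by
  have h3 := three_eq_zero (F := F)
  funext i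
  fin_cases i <;> simp [mop_apply, rot_apply, show (-1 : Fin 3) = 2 from rfl] <;>
    match_scalars <;> grind

omit [CharP F 3] in
theorem mop_symm (b : F) (β : LinearMap.BilinForm F W) (a c : Fin 3 → W) :
    ∑ i, β (mop b a i) (c i) = ∑ i, β (a i) (mop b c i) := by
  simp [Fin.sum_univ_three, mop_apply]
  ring

omit [CharP F 3] in
theorem rot_sum (β : LinearMap.BilinForm F W) (a c : Fin 3 → W) :
    ∑ i, β (rot (F := F) a i) (rot (F := F) c i) = ∑ i, β (a i) (c i) := by
  simp [Fin.sum_univ_three, rot_apply, show (-1 : Fin 3) = 2 from rfl]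
  ring

end Mop

/-- The model root. -/
def root0 (b : F) : Module.End F V where
  toFun v := Sum.elim (mop b fun i => v (Sum.inl i)) (mop b fun i => v (Sum.inr i))
  map_add' u v := by
    funext i
    rcases i with i | i <;> simp [mop_apply] <;> ring
  map_smul' r v := by
    funext i
    rcases i with i | i <;> simp [mop_apply] <;> ring

theorem B_elim (a c a' c' : Fin 3 → F) :
    B (Sum.elim a c) (Sum.elim a' c') = ∑ i, c i * a' i - ∑ i, a i * c' i := by
  rw [sympBilin_apply, sympForm_eq_sum, Finset.sum_sub_distrib]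
  rfl

theorem elim_self (v : V) : Sum.elim (fun i => v (Sum.inl i)) (fun i => v (Sum.inr i)) = v :=
  funext fun i => by rcases i with i | i <;> rfl

theorem root0_sa (b : F) : SA (root0 b) := by
  intro x y
  rw [← elim_self x, ← elim_self y]
  show B (Sum.elim _ _) (Sum.elim _ _) = B (Sum.elim _ _) (Sum.elim _ _)
  simp only [Sum.elim_inl, Sum.elim_inr]
  rw [B_elim, B_elim]
  simp [Fin.sum_univ_three, mop_apply]
  ring

variable [CharP F 3]

theorem root0_cubic (b : F) (x : V) :
    root0 b (root0 b (root0 b x)) - root0 b x + b • x = 0 := by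
  funext i
  rcases i with i | i
  · exact congrFun (mop_cubic b fun i => x (Sum.inl i)) i
  · exact congrFun (mop_cubic b fun i => x (Sum.inr i)) i

/-- The regular unipotent element of the model with parameter `l`. -/
def kLin (b l : F) : Module.End F V where
  toFun v := Sum.elim
    (rot (F := F) (fun i => v (Sum.inl i)) + l • mop b (mop b (rot (F := F) fun i => v (Sum.inr i))))
    (rot (F := F) fun i => v (Sum.inr i))
  map_add' u v := by
    funext i
    rcases i with i | i <;> simp [mop_apply, rot_apply] <;> ring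
  map_smul' r v := by
    funext i
    rcases i with i | i <;> simp [mop_apply, rot_apply] <;> ring

theorem B_kLin (b l : F) (x y : V) : B (kLin b l x) (kLin b l y) = B x y := by
  rw [← elim_self x, ← elim_self y]
  show B (Sum.elim _ _) (Sum.elim _ _) = B (Sum.elim _ _) (Sum.elim _ _)
  simp only [Sum.elim_inl, Sum.elim_inr]
  rw [B_elim, B_elim]
  simp [Fin.sum_univ_three, mop_apply, rot_apply, show (-1 : Fin 3) = 2 from rfl]
  ring

theorem exists_kOp (b l : F) : ∃ k : G, ∀ v : V, k • v = kLin b l v := by
  refine ⟨⟨LinearMap.toMatrix' (kLin b l), ?_⟩, fun v => ?_⟩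
  · rw [mem_iff_form]
    intro u v
    rw [LinearMap.toMatrix'_mulVec, LinearMap.toMatrix'_mulVec, ← sympBilin_apply,
      ← sympBilin_apply, B_kLin]
  · rw [smul_eq]
    exact LinearMap.toMatrix'_mulVec _ _

theorem kLin_root0 (b l : F) (x : V) :
    root0 b (kLin b l x) = kLin b l (root0 b x) + (1 : F) • kLin b l x := by
  set a : Fin 3 → F := fun i => x (Sum.inl i) with ha
  set c : Fin 3 → F := fun i => x (Sum.inr i) with hc
  funext i
  rcases i with i | i
  · show mop b (rot (F := F) a + l • mop b (mop b (rot (F := F) c))) i =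
      (rot (F := F) (mop b a) + l • mop b (mop b (rot (F := F) (mop b c)))) i +
        (1 : F) * (rot (F := F) a + l • mop b (mop b (rot (F := F) c))) i
    have e : rot (F := F) (mop b c) = mop b (rot (F := F) c) - rot (F := F) c := by
      rw [mop_rot b c]; abel
    rw [e, map_add, map_smul, mop_rot b a, map_sub, map_sub]
    simp only [Pi.add_apply, Pi.smul_apply, Pi.sub_apply, smul_eq_mul]
    ring
  · show mop b (rot (F := F) c) i = rot (F := F) (mop b c) i + (1 : F) * rot (F := F) c i
    rw [mop_rot b c, one_mul]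
    rfl

theorem kLin_cube (b l : F) (x : V) : kLin b l (kLin b l (kLin b l x)) =
    x + Sum.elim ((l + l) • fun i => x (Sum.inr i)) 0 := by
  have h3 := three_eq_zero (F := F)
  funext i
  rcases i with i | i <;> fin_cases i <;>
    simp [kLin, mop_apply, rot_apply, show (-1 : Fin 3) = 2 from rfl] <;> grind

/-- The subgroup of the model. -/
def twistGroup (b : F) : Subgroup G where
  carrier := {k | ∃ i : F, i ^ 3 = i ∧ ∀ x : V, root0 b (k • x) = k • root0 b x + i • (k • x)}
  one_mem' := ⟨0, by simp, fun x => by simp⟩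
  mul_mem' {k k'} hk hk' := by
    obtain ⟨i, hi, h⟩ := hk
    obtain ⟨j, hj, h'⟩ := hk'
    refine ⟨j + i, by rw [add_pow_char, hi, hj], fun x => ?_⟩
    rw [mul_smul, mul_smul, h, h', smul_add k, smul_comm k j, add_smul, add_assoc]
  inv_mem' {k} hk := by
    obtain ⟨i, hi, h⟩ := hk
    refine ⟨-i, by linear_combination -hi, fun x => ?_⟩
    have := h (k⁻¹ • x)
    rw [smul_inv_smul] at this
    rw [this, smul_add, inv_smul_smul, smul_comm k⁻¹ i]
    generalize k⁻¹ • x = y
    generalize root0 b y = z
    module

end Cfsg.Agent.Cover98.Sp3
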