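import Cfsg.Agent.Cover98.Sp3.Model

/-!
An element `su` with `u³ = 1`, `(u-1)²` of rank 2 and `s` of order prime to 3 moves a root of
`X³ - X + b` by 1 (helper98, S2500).
-/

set_option autoImplicit false

namespace Cfsg.Agent.Cover98.Sp3

open Module Cfsg.Agent.Symplectic Cfsg.Agent.Forms

variable {F : Type*} [Field F]

local notation "V" => Vec 3 F
local notation "G" => Sp 3 F
local notation "B" => sympBilin 3 F

/-- An invariant complement of an invariant subspace, by averaging. -/
theorem exists_compl_invariant [Finite F] [CharP F 3] {s : G} (hs : ¬ 3 ∣ orderOf s) {R : Submodule F V}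
    (hR : ∀ h ∈ Subgroup.zpowers s, ∀ x ∈ R, h • x ∈ R) :
    ∃ U : Submodule F V, IsCompl U R ∧ ∀ x ∈ U, s • x ∈ U := by
  haveI : Finite (Sp 3 F) := Finite.of_injective
    (fun g : Sp 3 F => (g : Matrix (Fin 3 ⊕ Fin 3) (Fin 3 ⊕ Fin 3) F)) Subtype.coe_injective
  haveI := Fintype.ofFinite (Subgroup.zpowers s)
  obtain ⟨C, hC⟩ := R.exists_isCompl
  let π : Module.End F V := R.projection C hC
  have hπR : ∀ x, π x ∈ R := fun x => Submodule.projection_apply_mem hC x
  have hπid : ∀ x ∈ R, π x = x := fun x hx => Submodule.projection_apply_left hC ⟨x, hx⟩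
  let S : Module.End F V := ∑ h : Subgroup.zpowers s, op (h : G) * π * op ((h : G)⁻¹)
  have hSv : ∀ v, S v = ∑ h : Subgroup.zpowers s, (h : G) • π ((h : G)⁻¹ • v) := fun v => by
    simp [S, LinearMap.sum_apply, Module.End.mul_apply, op_apply]
  have hm : ((Fintype.card (Subgroup.zpowers s) : ℕ) : F) ≠ 0 := by
    rw [Fintype.card_eq_nat_card, Nat.card_zpowers, Ne, CharP.cast_eq_zero_iff F 3]
    exact hs
  have hSR : ∀ v, S v ∈ R := fun v => by
    rw [hSv]
    exact R.sum_mem fun h _ => hR _ h.2 _ (hπR _)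
  have hSid : ∀ x ∈ R, S x = (Fintype.card (Subgroup.zpowers s) : F) • x := fun x hx => by
    rw [hSv, Finset.sum_congr rfl (fun (h : Subgroup.zpowers s) _ => by
      rw [hπid _ (hR _ (Subgroup.inv_mem _ h.2) x hx), smul_inv_smul]), Finset.sum_const,
      Finset.card_univ, Nat.cast_smul_eq_nsmul]
  refine ⟨LinearMap.ker S, ⟨Submodule.disjoint_def.2 fun x hx hxR => ?_,
    codisjoint_iff.2 (eq_top_iff.2 fun x _ => ?_)⟩, fun x hx => ?_⟩
  · have := hSid x hxR
    rw [show S x = 0 from hx] at this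
    exact (smul_eq_zero.1 this.symm).resolve_left hm
  · refine Submodule.mem_sup.2 ⟨x - ((Fintype.card (Subgroup.zpowers s) : F))⁻¹ • S x, ?_,
      _, R.smul_mem _ (hSR x), sub_add_cancel _ _⟩
    show S _ = 0
    rw [map_sub, map_smul, hSid _ (hSR x), smul_smul, inv_mul_cancel₀ hm, one_smul, sub_self]
  · show S (s • x) = 0
    have : S (s • x) = s • S x := by
      rw [hSv, hSv, Finset.smul_sum]
      refine (Fintype.sum_equiv (Equiv.mulLeft ⟨s, Subgroup.mem_zpowers s⟩) _ _ fun h => ?_).symm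
      simp [mul_smul, mul_inv_rev]
    rw [this, show S x = 0 from hx, smul_zero]

/-- The nilpotent part. -/
noncomputable def nil (u : G) : Module.End F V := op u - 1

theorem nil_apply (u : G) (x : V) : nil u x = u • x - x := rfl

theorem smul_three {u : G} (hu : u ^ 3 = 1) (x : V) : u • u • u • x = x := by
  rw [← mul_smul, ← mul_smul, show u * u * u = u ^ 3 by rw [pow_three', ], hu, one_smul]

theorem inv_smul_three {u : G} (hu : u ^ 3 = 1) (x : V) : u⁻¹ • x = u • u • x := by
  rw [inv_smul_eq_iff, smul_three hu]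

variable [CharP F 3]

theorem nil_nil (u : G) (x : V) : nil u (nil u x) = u • u • x + u • x + x := by
  have h3 := three_eq_zero (F := F)
  simp only [nil_apply, smul_sub]
  generalize u • u • x = a
  generalize u • x = c
  have h3c : (3 : F) • c = 0 := by rw [h3, zero_smul]
  linear_combination (norm := module) -h3c

theorem nil_cube {u : G} (hu : u ^ 3 = 1) (x : V) : nil u (nil u (nil u x)) = 0 := by
  rw [nil_nil, nil_apply, smul_sub, smul_sub, smul_three hu]
  abel

theorem exists_scalar_alt {W : Type*} [AddCommGroup W] [Module F W] [FiniteDimensional F W]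
    (h2 : finrank F W = 2) (A β : LinearMap.BilinForm F W) (hA : ∀ a, A a a = 0)
    (hβ : ∀ a, β a a = 0) (hne : ∃ a c, β a c ≠ 0) : ∃ k : F, ∀ a c, A a c = k * β a c := by
  let e : Basis (Fin 2) F W := Module.finBasisOfFinrankEq F W h2
  have key : ∀ (A : LinearMap.BilinForm F W), (∀ a, A a a = 0) → ∀ a c,
      A a c = (e.repr a 0 * e.repr c 1 - e.repr a 1 * e.repr c 0) * A (e 0) (e 1) := by
    intro A hA a c
    have h10 : A (e 1) (e 0) = -A (e 0) (e 1) := by
      have := hA (e 0 + e 1)
      simp only [map_add, LinearMap.add_apply, hA] at this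
      linear_combination this
    conv_lhs => rw [← e.sum_repr a, ← e.sum_repr c]
    simp only [Fin.sum_univ_two, map_add, map_smul, LinearMap.add_apply, LinearMap.smul_apply,
      smul_eq_mul, hA, h10]
    ring
  have h01 : β (e 0) (e 1) ≠ 0 := fun h => by
    obtain ⟨a, c, hac⟩ := hne
    exact hac (by rw [key β hβ, h, mul_zero])
  refine ⟨A (e 0) (e 1) / β (e 0) (e 1), fun a c => ?_⟩
  rw [key A hA a c, key β hβ a c]
  field_simp

theorem twisted_of_su [Finite F] (b : F) {s u : G} (hsu : Commute s u) (hs : ¬ 3 ∣ orderOf s)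
    (hu : u ^ 3 = 1) (hr : finrank F (LinearMap.range (nil u * nil u)) = 2) :
    Twisted b (s * u) := by
  set N := nil u with hN
  have hN3 : ∀ x, N (N (N x)) = 0 := nil_cube hu
  have hBu : ∀ x y, B (u • x) y = B x (u • u • y) := fun x y => by
    rw [B_smul_left, inv_smul_three hu]
  have hNN : ∀ x, N (N x) = u • u • x + u • x + x := nil_nil u
  -- ranks
  have hr1 : finrank F (LinearMap.range N) = 4 := by
    have h1 := rank_mul_step N N
    have h2 := N.finrank_range_add_finrank_ker
    rw [finrank_V] at h2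
    have h3 : LinearMap.range (N * N) ≤ LinearMap.range N ⊓ LinearMap.ker N := by
      rintro _ ⟨x, rfl⟩
      exact ⟨⟨N x, rfl⟩, hN3 x⟩
    have h4 := Submodule.finrank_mono h3
    have h5 := Submodule.finrank_mono
      (show LinearMap.range (N * N) ≤ LinearMap.ker N from h3.trans inf_le_right)
    rw [hr] at h1 h4 h5
    omega
  have hker2 : LinearMap.ker (N * N) = LinearMap.range N := by
    refine (Submodule.eq_of_le_of_finrank_eq ?_ ?_).symm
    · rintro _ ⟨x, rfl⟩
      exact hN3 x
    · have := (N * N).finrank_range_add_finrank_ker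
      rw [finrank_V, hr] at this
      omega
  have hcomm : ∀ h ∈ Subgroup.zpowers s, ∀ x : V, N (h • x) = h • N x := by
    intro h hh x
    obtain ⟨n, rfl⟩ := Subgroup.mem_zpowers_iff.1 hh
    rw [nil_apply, nil_apply, smul_sub, ← mul_smul, ← mul_smul, (hsu.zpow_left n).eq]
  obtain ⟨U, hU, hUs⟩ := exists_compl_invariant hs (R := LinearMap.range N) (by
    rintro h hh _ ⟨x, rfl⟩
    exact ⟨h • x, hcomm h hh x⟩)
  have hUdim : finrank F U = 2 := by
    have := Submodule.finrank_add_eq_of_isCompl hU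
    rw [finrank_V, hr1] at this
    omega
  have hNs : ∀ x : V, N (s • x) = s • N x := hcomm s (Subgroup.mem_zpowers s)
  -- the basic form on `U`
  let β : LinearMap.BilinForm F U :=
    (B).comp U.subtype ((N * N) ∘ₗ U.subtype)
  have hβ : ∀ a c : U, β a c = B (a : V) (N (N (c : V))) := fun a c => rfl
  have hsym : ∀ x y, B (N (N x)) y = B x (N (N y)) := fun x y => by
    rw [hNN, hNN]
    simp only [map_add, LinearMap.add_apply, hBu, smul_three hu]
    abel
  have hβalt : ∀ a : U, β a a = 0 := fun a => by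
    have hsa : SA (N * N) := hsym
    rw [hβ, ← hsym]
    exact hsa.alt (a : V)
  have hβnd : β.Nondegenerate := by
    have key : ∀ a : U, (∀ c : U, β a c = 0) → a = 0 := by
      intro a h
      have hz : N (N (a : V)) = 0 := by
        refine eq_zero_of_B fun y => ?_
        obtain ⟨c, hc, _, ⟨z, rfl⟩, rfl⟩ := Submodule.mem_sup.1
          (hU.sup_eq_top ▸ Submodule.mem_top : y ∈ U ⊔ LinearMap.range N)
        rw [hsym, map_add, map_add, hN3, add_zero]
        exact h ⟨c, hc⟩
      have hmem : (a : V) ∈ LinearMap.range N := hker2 ▸ (hz : (a : V) ∈ LinearMap.ker (N * N))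
      exact Subtype.ext (Submodule.disjoint_def.1 hU.disjoint _ a.2 hmem)
    have hskew : ∀ a c : U, β a c = -β c a := fun a c => by
      have := hβalt (a + c)
      simp only [map_add, LinearMap.add_apply, hβalt] at this
      linear_combination this
    exact ⟨key, fun c h => key c fun a => by rw [hskew, h, neg_zero]⟩
  have hβne : ∃ a c : U, β a c ≠ 0 := by
    obtain ⟨a, ha, ha0⟩ := U.exists_mem_ne_zero_of_ne_bot (fun h => by
      rw [h, finrank_bot] at hUdim; omega)
    by_contra! h
    exact ha0 (congrArg Subtype.val (hβnd.1 ⟨a, ha⟩ (h ⟨a, ha⟩)))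
  -- first correction
  let γ : LinearMap.BilinForm F U := -β - (B).comp U.subtype (N ∘ₗ U.subtype)
  have hγ : ∀ a c : U, γ a c = -β a c - B (a : V) (N (c : V)) := fun a c => rfl
  let φ : U →ₗ[F] U := (β.toDual hβnd).symm.toLinearMap ∘ₗ γ.flip
  have hφ : ∀ a c : U, β (φ c) a = γ a c := fun a c =>
    LinearMap.BilinForm.apply_toDual_symm_apply (hB := hβnd) (γ.flip c) a
  let ι₁ : U →ₗ[F] V := U.subtype + N ∘ₗ U.subtype ∘ₗ φ
  have hι₁ : ∀ a : U, ι₁ a = (a : V) + N (φ a : V) := fun a => rfl
  have hNadj : ∀ x y, B (N x) y = B x (N (N y)) - B x (N y) := fun x y => by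
    have h3 := three_eq_zero (F := F)
    rw [hNN, nil_apply, nil_apply]
    simp only [map_add, map_sub, LinearMap.sub_apply, hBu]
    linear_combination -(B x y) * h3
  have hβ₁ : ∀ a c : U, B (ι₁ a) (N (N (ι₁ c))) = β a c := fun a c => by
    simp only [hι₁, hβ, map_add, hN3, add_zero, LinearMap.add_apply, hNadj, map_zero, sub_zero]
  have hB₁ : ∀ a c : U, B (ι₁ a) (N (ι₁ c)) = -β a c := fun a c => by
    have h3 := three_eq_zero (F := F)
    have e2 : γ c a = γ a c := by
      have hsk : β c a = -β a c := by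
        have := hβalt (a + c)
        simp only [map_add, LinearMap.add_apply, hβalt] at this
        linear_combination this
      have e : B (c : V) (N a) = -(B (a : V) (N (N c)) - B (a : V) (N c)) := by
        rw [B_swap, hNadj]
      rw [hγ, hγ, e, hsk, hβ]
      linear_combination B (a : V) (N (N (c : V))) * h3
    have h4 := hφ a c
    have h5 := hφ c a
    rw [hβ] at h4 h5
    have h6 : B (a : V) (N (N (φ c : V))) = -γ a c := by
      rw [← hsym, B_swap, h4]
    have h7 : B (N (φ a : V)) (N (c : V)) = -γ a c := by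
      rw [hNadj, hN3, map_zero, zero_sub, h5, e2]
    simp only [hι₁, map_add, LinearMap.add_apply, hN3, hNadj (φ a : V) (N (N (φ c : V))),
      map_zero, sub_zero, add_zero, h6, h7]
    rw [hγ]
    linear_combination (β a c + B (a : V) (N (c : V))) * h3
  -- second correction
  let A₁ : LinearMap.BilinForm F U := (B).comp ι₁ ι₁
  obtain ⟨k, hk⟩ := exists_scalar_alt hUdim (β - A₁) β (fun a => by
    show β a a - B (ι₁ a) (ι₁ a) = 0
    rw [hβalt, B_self, sub_zero]) hβalt hβne
  let ι : U →ₗ[F] V := ι₁ + (-k) • ((N * N) ∘ₗ ι₁)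
  have hι : ∀ a : U, ι a = ι₁ a + (-k) • N (N (ι₁ a)) := fun a => rfl
  have hB0 : ∀ a c : U, B (ι a) (ι c) = β a c := fun a c => by
    have h3 := three_eq_zero (F := F)
    have hk' : β a c - B (ι₁ a) (ι₁ c) = k * β a c := hk a c
    simp only [hι, map_add, map_smul, LinearMap.add_apply, LinearMap.smul_apply, smul_eq_mul,
      hsym, hN3, map_zero, hβ₁]
    linear_combination -hk' - k * β a c * h3
  have hBN : ∀ a c : U, B (ι a) (N (ι c)) = -β a c := fun a c => by
    simp only [hι, map_add, map_smul, LinearMap.add_apply, LinearMap.smul_apply, smul_eq_mul,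
      hsym, hN3, map_zero, hB₁, mul_zero, add_zero]
  have hBNN : ∀ a c : U, B (ι a) (N (N (ι c))) = β a c := fun a c => by
    simp only [hι, map_add, map_smul, LinearMap.add_apply, LinearMap.smul_apply, smul_eq_mul,
      hsym, hN3, map_zero, hβ₁, mul_zero, add_zero]
  have hB1 : ∀ a c : U, B (ι a) (u • ι c) = 0 := fun a c => by
    have h1 := hBN a c
    rw [nil_apply, map_sub, hB0] at h1
    linear_combination h1
  have hB2 : ∀ a c : U, B (ι a) (u • u • ι c) = 0 := fun a c => by
    have h1 := hBNN a c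
    rw [hNN, map_add, map_add, hB0, hB1] at h1
    linear_combination h1
  -- equivariance
  let σ : U →ₗ[F] U := (op s).restrict hUs
  have hσ : ∀ a : U, (σ a : V) = s • (a : V) := fun a => rfl
  have hβσ : ∀ a c : U, β (σ a) (σ c) = β a c := fun a c => by
    rw [hβ, hβ, hσ, hσ, hNs, hNs, B_smul]
  have hγσ : ∀ a c : U, γ (σ a) (σ c) = γ a c := fun a c => by
    rw [hγ, hγ, hβσ, hσ, hσ, hNs, B_smul]
  have hσsurj : Function.Surjective σ := LinearMap.injective_iff_surjective.1 fun a c e =>
    Subtype.ext (MulAction.injective s (show s • (a : V) = s • (c : V) by rw [← hσ, e, hσ]))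
  have hφσ : ∀ c : U, φ (σ c) = σ (φ c) := fun c => by
    refine sub_eq_zero.1 (hβnd.1 _ fun a => ?_)
    obtain ⟨a', rfl⟩ := hσsurj a
    rw [map_sub, LinearMap.sub_apply, hφ, hγσ, hβσ, hφ, sub_self]
  have hισ : ∀ a : U, ι (σ a) = s • ι a := fun a => by
    simp only [hι, hι₁, hσ, hφσ, smul_add, map_add, hNs, smul_comm s]
  -- the frame
  let Φ : (Fin 3 → U) →ₗ[F] V :=
    ι ∘ₗ LinearMap.proj 0 + (op u) ∘ₗ ι ∘ₗ LinearMap.proj 1 +
      (op u) ∘ₗ (op u) ∘ₗ ι ∘ₗ LinearMap.proj 2
  have hΦ : ∀ a : Fin 3 → U, Φ a = ι (a 0) + u • ι (a 1) + u • u • ι (a 2) := fun a => rfl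
  have hBΦ : ∀ a c : Fin 3 → U, B (Φ a) (Φ c) = ∑ i, β (a i) (c i) := fun a c => by
    simp only [hΦ, map_add, LinearMap.add_apply, Fin.sum_univ_three, B_smul, hBu, smul_three hu,
      hB0, hB1, hB2, add_zero, zero_add]
  have hΦinj : Function.Injective Φ := by
    rw [injective_iff_map_eq_zero]
    intro a ha
    funext i
    refine hβnd.1 _ fun c => ?_
    have := hBΦ a (Pi.single i c)
    rw [ha, map_zero, LinearMap.zero_apply] at this
    rw [Finset.sum_eq_single i (fun j _ hj => by simp [hj]) (by simp)] at this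
    simpa using this.symm
  let e : (Fin 3 → U) ≃ₗ[F] V := LinearEquiv.ofBijective Φ ⟨hΦinj,
    (LinearMap.injective_iff_surjective_of_finrank_eq_finrank (by
      rw [Module.finrank_pi_fintype, finrank_V, Fin.sum_univ_three, hUdim])).1 hΦinj⟩
  have he : ∀ a, e a = Φ a := fun a => rfl
  have hg : ∀ a : Fin 3 → U, (s * u) • Φ a = Φ (rot (F := F) fun i => σ (a i)) := fun a => by
    rw [mul_smul]
    simp only [hΦ, rot_apply, smul_add, smul_three hu, show (0 : Fin 3) - 1 = 2 from rfl,
      show (1 : Fin 3) - 1 = 0 from rfl, show (2 : Fin 3) - 1 = 1 from rfl, hισ]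
    rw [← mul_smul s u, hsu.eq, mul_smul, ← mul_smul s u (u • ι (a 1)), hsu.eq, mul_smul,
      ← mul_smul s u (ι (a 1)), hsu.eq, mul_smul]
    abel
  let θ : Module.End F V := e.toLinearMap ∘ₗ mop b ∘ₗ e.symm.toLinearMap
  have hθ : ∀ a, θ (Φ a) = Φ (mop b a) := fun a => by
    show e (mop b (e.symm (e a))) = _
    rw [e.symm_apply_apply, he]
  have hsurj : ∀ x : V, ∃ a, x = Φ a := fun x => ⟨e.symm x, (e.apply_symm_apply x).symm⟩
  refine ⟨θ, fun x y => ?_, fun x => ?_, 1, one_pow 3, fun x => ?_⟩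
  · obtain ⟨a, rfl⟩ := hsurj x
    obtain ⟨c, rfl⟩ := hsurj y
    rw [hθ, hθ, hBΦ, hBΦ, mop_symm]
  · obtain ⟨a, rfl⟩ := hsurj x
    rw [hθ, hθ, hθ, ← map_smul, ← map_sub, ← map_add, mop_cubic, map_zero]
  · obtain ⟨a, rfl⟩ := hsurj x
    rw [hg, hθ, mop_rot, map_add, hθ, hg, one_smul]
    congr 2
    have : mop b (fun i => σ (a i)) = fun i => σ (mop b a i) := by
      funext i
      simp only [mop_apply, map_add, map_smul]
    rw [this]

end Cfsg.Agent.Cover98.Sp3
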