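import Cfsg.Agent.Cover98.Sp3.Conj
import Cfsg.Agent.Cover98.Sp3.Semi

/-!
A regular unipotent element of `Sp₆` moves a self-adjoint root of `X³ - X + b` by 1
(helper98, S2500).
-/

set_option autoImplicit false

namespace Cfsg.Agent.Cover98.Sp3

open Polynomial Cfsg.Agent.Symplectic Cfsg.Agent.Forms

variable {F : Type*} [Field F]

local notation "V" => Vec 3 F
local notation "G" => Sp 3 F
local notation "B" => sympBilin 3 F

/-- Transport along an isometry. -/
theorem twisted_transport {b : F} {k g : G} (ψ : Module.End F V)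
    (hψ : ∀ x y, B (ψ x) (ψ y) = B x y) (hk : ∀ x : V, ψ (k • x) = g • ψ x) (h : Twisted b k) :
    Twisted b g := by
  obtain ⟨θ, hs, hc, i, hi, hm⟩ := h
  have hinj : Function.Injective ψ := by
    rw [injective_iff_map_eq_zero]
    intro x hx
    exact eq_zero_of_B fun y => by rw [← hψ, hx, map_zero, LinearMap.zero_apply]
  let e := LinearEquiv.ofInjectiveEndo ψ hinj
  have hsurj : ∀ x : V, ∃ a, x = ψ a := fun x => ⟨e.symm x, (e.apply_symm_apply x).symm⟩
  have he : ∀ a, e.symm (ψ a) = a := fun a => e.symm_apply_apply a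
  refine ⟨ψ ∘ₗ θ ∘ₗ e.symm.toLinearMap, fun x y => ?_, fun x => ?_, i, hi, fun x => ?_⟩
  · obtain ⟨a, rfl⟩ := hsurj x
    obtain ⟨c, rfl⟩ := hsurj y
    simp only [LinearMap.comp_apply, LinearEquiv.coe_coe, he, hψ]
    exact hs a c
  · obtain ⟨a, rfl⟩ := hsurj x
    simp only [LinearMap.comp_apply, LinearEquiv.coe_coe, he]
    rw [← map_smul ψ, ← map_sub ψ, ← map_add ψ, hc, map_zero]
  · obtain ⟨a, rfl⟩ := hsurj x
    simp only [LinearMap.comp_apply, LinearEquiv.coe_coe, ← hk, he, hm, map_add, map_smul]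

/-- The cyclic frame of a nilpotent map. -/
noncomputable def cyc (N : Module.End F V) (x : V) : (Fin 6 → F) →ₗ[F] V :=
  ∑ i : Fin 6, (LinearMap.proj i : (Fin 6 → F) →ₗ[F] F).smulRight ((N ^ (i : ℕ)) x)

theorem cyc_apply (N : Module.End F V) (x : V) (c : Fin 6 → F) :
    cyc N x c = ∑ i : Fin 6, c i • (N ^ (i : ℕ)) x := by
  simp [cyc, LinearMap.sum_apply]

theorem cyc_shift {N : Module.End F V} (h6 : N ^ 6 = 0) (x : V) (c : Fin 6 → F) :
    N (cyc N x c) = cyc N x ![0, c 0, c 1, c 2, c 3, c 4] := by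
  have e : ∀ j : ℕ, N ((N ^ j) x) = (N ^ (j + 1)) x := fun j => by
    rw [pow_succ', Module.End.mul_apply]
  rw [cyc_apply, cyc_apply, map_sum, Fin.sum_univ_six, Fin.sum_univ_six]
  simp only [map_smul, e]
  simp [h6, add_comm, add_assoc]

theorem cyc_injective {N : Module.End F V} (h6 : N ^ 6 = 0) {x : V} (h5 : (N ^ 5) x ≠ 0) :
    Function.Injective (cyc N x) := by
  rw [injective_iff_map_eq_zero]
  intro c hc
  rw [cyc_apply, Fin.sum_univ_six] at hc
  have hz : ∀ j, 6 ≤ j → (N ^ j) x = 0 := fun j hj => by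
    obtain ⟨e, rfl⟩ := Nat.exists_eq_add_of_le hj
    rw [pow_add, h6, zero_mul, LinearMap.zero_apply]
  have key : ∀ k : ℕ, c 0 • (N ^ k) x + c 1 • (N ^ (k + 1)) x + c 2 • (N ^ (k + 2)) x +
      c 3 • (N ^ (k + 3)) x + c 4 • (N ^ (k + 4)) x + c 5 • (N ^ (k + 5)) x = 0 := fun k => by
    have := congrArg (N ^ k) hc
    simp only [map_add, map_smul, ← Module.End.mul_apply, ← pow_add, map_zero] at this
    exact this
  have k5 := key 5; have k4 := key 4; have k3 := key 3; have k2 := key 2; have k1 := key 1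
  simp only [Nat.reduceAdd, hz 6 le_rfl, hz 7 (by norm_num), hz 8 (by norm_num),
    hz 9 (by norm_num), hz 10 (by norm_num), smul_zero, add_zero, smul_eq_zero, h5, or_false] at k5
  simp only [Nat.reduceAdd, hz 6 le_rfl, hz 7 (by norm_num), hz 8 (by norm_num),
    hz 9 (by norm_num), smul_zero, add_zero, k5, zero_smul, zero_add, smul_eq_zero, h5, or_false] at k4
  simp only [Nat.reduceAdd, hz 6 le_rfl, hz 7 (by norm_num), hz 8 (by norm_num), smul_zero,
    add_zero, k5, k4, zero_smul, zero_add, smul_eq_zero, h5, or_false] at k3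
  simp only [Nat.reduceAdd, hz 6 le_rfl, hz 7 (by norm_num), smul_zero, add_zero, k5, k4, k3,
    zero_smul, zero_add, smul_eq_zero, h5, or_false] at k2
  simp only [Nat.reduceAdd, hz 6 le_rfl, smul_zero, add_zero, k5, k4, k3, k2, zero_smul, zero_add,
    smul_eq_zero, h5, or_false] at k1
  simp only [k5, k4, k3, k2, k1, zero_smul, zero_add] at hc
  have hc5 : c 5 = 0 := (smul_eq_zero.1 (by simpa using hc)).resolve_right h5
  funext i
  fin_cases i <;> assumption

theorem cyc_bijective {N : Module.End F V} (h6 : N ^ 6 = 0) {x : V} (h5 : (N ^ 5) x ≠ 0) :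
    Function.Bijective (cyc N x) :=
  ⟨cyc_injective h6 h5, (LinearMap.injective_iff_surjective_of_finrank_eq_finrank (by
    rw [Module.finrank_fin_fun, finrank_V])).1 (cyc_injective h6 h5)⟩

theorem exists_intertwiner {N N' : Module.End F V} (h6 : N ^ 6 = 0) {x : V} (h5 : (N ^ 5) x ≠ 0)
    (h6' : N' ^ 6 = 0) {x' : V} (h5' : (N' ^ 5) x' ≠ 0) :
    ∃ φ : Module.End F V, Function.Injective φ ∧ ∀ v, φ (N v) = N' (φ v) := by
  let e := LinearEquiv.ofBijective (cyc N x) (cyc_bijective h6 h5)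
  let e' := LinearEquiv.ofBijective (cyc N' x') (cyc_bijective h6' h5')
  refine ⟨e'.toLinearMap ∘ₗ e.symm.toLinearMap, fun a c h => e.symm.injective (e'.injective h),
    fun v => ?_⟩
  obtain ⟨c, rfl⟩ : ∃ c, v = e c := ⟨e.symm v, (e.apply_symm_apply v).symm⟩
  show e' (e.symm (N (cyc N x c))) = N' (e' (e.symm (e c)))
  rw [cyc_shift h6, e.symm_apply_apply]
  show e' (e.symm (e _)) = N' (cyc N' x' c)
  rw [e.symm_apply_apply, cyc_shift h6']
  rfl

/-- The commutant of a regular nilpotent map. -/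
theorem exists_scalar_add_nilpotent {N : Module.End F V} (h6 : N ^ 6 = 0) {x : V}
    (h5 : (N ^ 5) x ≠ 0) {A : Module.End F V} (hA : Commute A N) :
    ∃ (c : F) (M : Module.End F V), A = c • 1 + M ∧ M ^ 6 = 0 ∧ (c = 0 → A ((N ^ 5) x) = 0) := by
  obtain ⟨c, hc⟩ := (cyc_bijective h6 h5).2 (A x)
  rw [cyc_apply, Fin.sum_univ_six] at hc
  set R : Module.End F V := c 1 • 1 + c 2 • N + c 3 • N ^ 2 + c 4 • N ^ 3 + c 5 • N ^ 4 with hR
  have hRN : Commute N R := by
    rw [hR]
    exact (((((Commute.one_right N).smul_right (c 1)).add_right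
      ((Commute.refl N).smul_right (c 2))).add_right
      ((Commute.self_pow N 2).smul_right (c 3))).add_right
      ((Commute.self_pow N 3).smul_right (c 4))).add_right ((Commute.self_pow N 4).smul_right (c 5))
  set P : Module.End F V := c 0 • 1 + N * R with hP
  have hPN : Commute N P :=
    ((Commute.one_right N).smul_right (c 0)).add_right ((Commute.refl N).mul_right hRN)
  have hbase : A x = P x := by
    have e : ∀ j : ℕ, (N ^ (j + 1)) x = N ((N ^ j) x) := fun j => by
      rw [pow_succ', Module.End.mul_apply]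
    rw [← hc, hP, hR]
    simp only [Fin.val_zero, Fin.val_one, Fin.val_two, LinearMap.add_apply, LinearMap.smul_apply,
      Module.End.mul_apply, Module.End.one_apply, map_add, map_smul, pow_zero]
    simp only [e, pow_zero, pow_one, Module.End.one_apply, add_assoc,
      show ((3 : Fin 6) : ℕ) = 2 + 1 from rfl, show ((4 : Fin 6) : ℕ) = 3 + 1 from rfl,
      show ((5 : Fin 6) : ℕ) = 4 + 1 from rfl]
  refine ⟨c 0, N * R, LinearMap.ext fun v => ?_, by rw [hRN.mul_pow, h6, zero_mul], fun h => ?_⟩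
  · obtain ⟨d, rfl⟩ := (cyc_bijective h6 h5).2 v
    have e1 : ∀ j : ℕ, A ((N ^ j) x) = (N ^ j) (A x) := fun j =>
      LinearMap.congr_fun (hA.pow_right j).eq x
    have e2 : ∀ j : ℕ, P ((N ^ j) x) = (N ^ j) (P x) := fun j =>
      LinearMap.congr_fun (hPN.symm.pow_right j).eq x
    rw [← hP]
    simp only [cyc_apply, map_sum, map_smul, e1, e2, hbase]
  · rw [show A ((N ^ 5) x) = (N ^ 5) (A x) from LinearMap.congr_fun (hA.pow_right 5).eq x, hbase,
      hP, h, zero_smul, zero_add, ← Module.End.mul_apply, ← mul_assoc, ← pow_succ, h6, zero_mul,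
      LinearMap.zero_apply]

/-- Scaling of the first Lagrangian. -/
def scaleFst (a : F) : Module.End F V where
  toFun w := Sum.elim (a • fun i => w (Sum.inl i)) (fun i => w (Sum.inr i))
  map_add' u w := by funext i; rcases i with i | i <;> simp [mul_add]
  map_smul' r w := by
    funext i
    rcases i with i | i
    · show a * (r * w (Sum.inl i)) = r * (a * w (Sum.inl i))
      ring
    · rfl

theorem B_scaleFst (a : F) (u w : V) : B (scaleFst a u) (scaleFst a w) = a * B u w := by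
  conv_rhs => rw [← elim_self u, ← elim_self w]
  show B (Sum.elim _ _) (Sum.elim _ _) = _
  rw [B_elim, B_elim]
  simp [Fin.sum_univ_three]
  ring

theorem scaleFst_kLin (b : F) {a : F} (ha : a ≠ 0) (w : V) :
    scaleFst a⁻¹ (kLin b a w) = kLin b 1 (scaleFst a⁻¹ w) := by
  funext i
  rcases i with i | i
  · show a⁻¹ * (rot (F := F) (fun j => w (Sum.inl j)) i +
        a * mop b (mop b (rot (F := F) fun j => w (Sum.inr j))) i) =
      a⁻¹ * w (Sum.inl (i - 1)) + 1 * mop b (mop b (rot (F := F) fun j => w (Sum.inr j))) i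
    rw [rot_apply, mul_add, ← mul_assoc, inv_mul_cancel₀ ha]
  · rfl

variable [CharP F 3]

theorem nil_cube_apply (g : G) (x : V) :
    nil g (nil g (nil g x)) = g • g • g • x - x := by
  rw [nil_nil, nil_apply, smul_sub, smul_sub]
  abel

theorem twisted_regular {b : F} {g : G} (h6 : nil g ^ 6 = 0)
    (h5 : ∃ x, (nil g ^ 5) x ≠ 0) : Twisted b g := by
  obtain ⟨x, hx⟩ := h5
  obtain ⟨k, hk⟩ := exists_kOp b (1 : F)
  have h3 := three_eq_zero (F := F)
  have hcube : ∀ v : V, (nil k ^ 3) v =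
      Sum.elim (((1 : F) + 1) • fun i => v (Sum.inr i)) 0 := fun v => by
    show nil k (nil k (nil k v)) = _
    rw [nil_cube_apply, hk, hk, hk, kLin_cube, add_sub_cancel_left]
  have hk6 : nil k ^ 6 = 0 := LinearMap.ext fun v => by
    rw [show (6 : ℕ) = 3 + 3 from rfl, pow_add, Module.End.mul_apply, hcube, hcube]
    funext i
    rcases i with i | i <;> simp
  have hk5 : (nil k ^ 5) (fI 0 : V) ≠ 0 := by
    intro h
    rw [show (5 : ℕ) = 3 + 2 from rfl, pow_add, Module.End.mul_apply, hcube] at h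
    have h0 := congrFun h (Sum.inl 0)
    rw [show ((nil k ^ 2) (fI 0 : V)) = nil k (nil k (fI 0)) from rfl, nil_nil, hk, hk] at h0
    simp [kLin, rot_apply, fI, show (-1 : Fin 3) = 2 from rfl] at h0
    exact two_ne_zero' (F := F) (by linear_combination h0)
  -- the intertwiner
  obtain ⟨φ, hφinj, hφN⟩ := exists_intertwiner hk6 hk5 h6 hx
  have hφk : ∀ v : V, φ (k • v) = g • φ v := fun v => by
    have := hφN v
    rw [nil_apply, nil_apply, map_sub] at this
    exact sub_left_inj.1 this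
  let A : Module.End F V :=
    ((B).toDual sympBilin_nondegenerate).symm.toLinearMap ∘ₗ (B).comp φ φ
  have hA : ∀ u v, B (A u) v = B (φ u) (φ v) := fun u v =>
    LinearMap.BilinForm.apply_toDual_symm_apply (hB := sympBilin_nondegenerate) _ v
  have hAs : SA A := fun u v => by rw [hA, B_swap u, hA, ← B_swap]
  have hAinj : Function.Injective A := fun u u' h => hφinj (by
    refine sub_eq_zero.1 (eq_zero_of_B fun z => ?_)
    obtain ⟨z', rfl⟩ := LinearMap.injective_iff_surjective.1 hφinj z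
    rw [map_sub, LinearMap.sub_apply, ← hA, ← hA, h, sub_self])
  have hAk : ∀ v : V, A (k • v) = k • A v := fun v => by
    refine sub_eq_zero.1 (eq_zero_of_B fun y => ?_)
    obtain ⟨y, rfl⟩ : ∃ y', y = k • y' := ⟨k⁻¹ • y, (smul_inv_smul k y).symm⟩
    rw [map_sub, LinearMap.sub_apply, B_smul, hA, hA, hφk, hφk, B_smul, sub_self]
  have hAN : Commute A (nil k) := LinearMap.ext fun v => by
    rw [Module.End.mul_apply, Module.End.mul_apply, nil_apply, nil_apply, map_sub, hAk]
  obtain ⟨c, M, hA0, hM6, hzero⟩ := exists_scalar_add_nilpotent hk6 hk5 hAN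
  have hc0 : c ≠ 0 := fun h => hk5 (hAinj (by rw [hzero h, map_zero]))
  set v : Module.End F V := c⁻¹ • A with hv
  have hv1 : v = 1 + c⁻¹ • M := by
    rw [hv, hA0, smul_add, inv_smul_smul₀ hc0]
  have hv9 : v ^ 9 = 1 := by
    haveI : Fact (Nat.Prime 3) := ⟨Nat.prime_three⟩
    have e9 : ((1 : F[X]) + X) ^ 3 ^ 2 = 1 ^ 3 ^ 2 + X ^ 3 ^ 2 := add_pow_char_pow _ _ _ _
    have := congrArg (aeval (c⁻¹ • M)) e9
    simp only [map_pow, map_add, map_one, aeval_X, one_pow, show (3 : ℕ) ^ 2 = 9 from rfl] at this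
    have hM9 : M ^ 9 = 0 := pow_eq_zero_of_le (by norm_num) hM6
    have hcM : (c⁻¹ • M) ^ 9 = 0 := by rw [_root_.smul_pow, hM9, smul_zero]
    rw [hv1, this, hcM, add_zero]
  set r := v ^ 4 with hr
  have hvs : SA v := fun u w => by
    simp only [hv, LinearMap.smul_apply, map_smul, hAs u w]
  have hrs : SA r := by
    have := hvs.aeval (X ^ 4)
    rwa [map_pow, aeval_X] at this
  have hrk : ∀ w : V, r (k • w) = k • r w := fun w => by
    have hvk : Commute v (op k) := LinearMap.ext fun z => by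
      show (c⁻¹ • A) (k • z) = k • (c⁻¹ • A) z
      simp only [LinearMap.smul_apply, hAk, smul_comm k]
    exact LinearMap.congr_fun (hvk.pow_left 4).eq w
  have hψ : ∀ u w, B (φ (r u)) (φ (r w)) = c * B u w := fun u w => by
    rw [← hA, show A = c • v by rw [hv, smul_inv_smul₀ hc0], LinearMap.smul_apply, map_smul,
      LinearMap.smul_apply, ← hrs, ← Module.End.mul_apply v, ← Module.End.mul_apply r, hr,
      ← pow_succ' v, ← pow_add, hv9, Module.End.one_apply, smul_eq_mul]
  -- adjust the multiplier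
  obtain ⟨k', hk'⟩ := exists_kOp b c
  refine twisted_transport (φ ∘ₗ r ∘ₗ scaleFst c⁻¹) (fun u w => ?_) (fun w => ?_)
    ⟨root0 b, root0_sa b, root0_cubic b, 1, one_pow 3, fun w => by rw [hk', hk', kLin_root0]⟩
  · show B (φ (r (scaleFst c⁻¹ u))) (φ (r (scaleFst c⁻¹ w))) = _
    rw [hψ, B_scaleFst, ← mul_assoc, mul_inv_cancel₀ hc0, one_mul]
  · show φ (r (scaleFst c⁻¹ (k' • w))) = g • φ (r (scaleFst c⁻¹ w))
    rw [hk', scaleFst_kLin b hc0, ← hk, hrk, hφk]

end Cfsg.Agent.Cover98.Sp3
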