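import Cfsg.Agent.Cover98.Basic
import Cfsg.Agent.ClMax99.AltSim
import Cfsg.Agent.Lib.Forms.Symp
import Cfsg.Agent.Lib.Symplectic.Simple

/-!
`Sp₆`: self-adjoint endomorphisms, ranks, and the two ways an element can be covered
(helper98, S2500).
-/

set_option autoImplicit false

namespace Cfsg.Agent.Cover98.Sp3

open Polynomial Module Cfsg.Agent.Symplectic Cfsg.Agent.Forms

variable {F : Type*} [Field F]

local notation "V" => Vec 3 F
local notation "G" => Sp 3 F
local notation "B" => sympBilin 3 F

/-- The endomorphism of a group element. -/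
noncomputable def op (g : G) : Module.End F (Vec 3 F) :=
  Matrix.toLinAlgEquiv' (g : Matrix (Fin 3 ⊕ Fin 3) (Fin 3 ⊕ Fin 3) F)

theorem op_apply (g : G) (v : V) : op g v = g • v := rfl

theorem op_mul (g h : G) : op (g * h) = op g * op h := map_mul Matrix.toLinAlgEquiv' _ _

theorem op_one : op (1 : G) = 1 := map_one Matrix.toLinAlgEquiv'

theorem op_pow (g : G) (k : ℕ) : op (g ^ k) = op g ^ k := by
  induction k with
  | zero => rw [pow_zero, pow_zero, op_one]
  | succ k ih => rw [pow_succ, pow_succ, op_mul, ih]

theorem B_smul (g : G) (x y : V) : B (g • x) (g • y) = B x y := by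
  rw [sympBilin_apply, sympBilin_apply, sympForm_smul_smul]

theorem B_smul_left (g : G) (x y : V) : B (g • x) y = B x (g⁻¹ • y) := by
  rw [← B_smul g⁻¹, inv_smul_smul]

theorem B_swap (x y : V) : B x y = -B y x := by
  rw [sympBilin_apply, sympBilin_apply, sympForm_swap]

theorem B_self (x : V) : B x x = 0 := sympBilin_isAlt x

theorem finrank_V : finrank F V = 6 := by
  simp [Module.finrank_fintype_fun_eq_card]

theorem eq_zero_of_B {x : V} (h : ∀ y, B x y = 0) : x = 0 := sympBilin_nondegenerate.1 x h

/-- Self-adjointness. -/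
def SA (T : Module.End F V) : Prop := ∀ x y, B (T x) y = B x (T y)

theorem SA.aeval {T : Module.End F V} (h : SA T) (f : F[X]) : SA (Polynomial.aeval T f) := by
  have hpow : ∀ k : ℕ, SA (T ^ k) := by
    intro k
    induction k with
    | zero => intro x y; rfl
    | succ k ih =>
      intro x y
      conv_lhs => rw [pow_succ', Module.End.mul_apply, h, ih, ← Module.End.mul_apply, ← pow_succ]
  induction f using Polynomial.induction_on' with
  | add f f' hf hf' =>
    intro x y
    simp only [map_add, LinearMap.add_apply, hf x y, hf' x y]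
  | monomial k a =>
    intro x y
    simp only [aeval_monomial, Module.End.mul_apply, Module.algebraMap_end_apply, map_smul,
      LinearMap.smul_apply, hpow k x y]

theorem two_ne_zero' [CharP F 3] : (2 : F) ≠ 0 := fun h => by
  have := (CharP.cast_eq_zero_iff F 3 2).1 (by exact_mod_cast h)
  norm_num at this

theorem SA.alt [CharP F 3] {T : Module.End F V} (h : SA T) (x : V) : B (T x) x = 0 := by
  have h1 : B (T x) x = -B (T x) x := by
    conv_lhs => rw [h x x, B_swap]
  exact (mul_eq_zero.1 (show (2 : F) * B (T x) x = 0 by linear_combination h1)).resolve_left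
    two_ne_zero'

theorem SA.even_rank [CharP F 3] {T : Module.End F V} (h : SA T) :
    Even (finrank F (LinearMap.range T)) := by
  obtain ⟨M, hM⟩ := (LinearMap.ker T).exists_isCompl
  let A : LinearMap.BilinForm F V := (B).comp T LinearMap.id
  have hA : A.IsAlt := fun x => h.alt x
  have hev := ClMax99.AltSim.even_finrank A hA M fun u hu hu0 => by
    have hTu : T u = 0 := by
      refine eq_zero_of_B fun y => ?_
      obtain ⟨k, hk, m, hm, rfl⟩ := Submodule.mem_sup.1
        (hM.sup_eq_top ▸ Submodule.mem_top : y ∈ LinearMap.ker T ⊔ M)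
      rw [map_add, show B (T u) m = 0 from hu0 m hm, add_zero, h u k,
        show T k = 0 from hk, map_zero]
    exact Submodule.disjoint_def.1 hM.disjoint u hTu hu
  have h1 := T.finrank_range_add_finrank_ker
  have h2 := Submodule.finrank_add_eq_of_isCompl hM
  rwa [show finrank F M = finrank F (LinearMap.range T) by omega] at hev

theorem finrank_le_three {U : Submodule F V} (h : ∀ x ∈ U, ∀ y ∈ U, B x y = 0) :
    finrank F U ≤ 3 := by
  have h1 : U ≤ (B).orthogonal U := fun x hx => fun y hy => h y hy x hx
  have h2 := Submodule.finrank_mono h1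
  rw [LinearMap.BilinForm.finrank_orthogonal sympBilin_nondegenerate, finrank_V] at h2
  omega

theorem finrank_range_mul_le (f g : Module.End F V) :
    finrank F (LinearMap.range (f * g)) ≤ finrank F (LinearMap.range f) :=
  Submodule.finrank_mono (LinearMap.range_comp_le_range _ _)

theorem rank_mul_step (f g : Module.End F V) :
    finrank F (LinearMap.range (f * g)) +
      finrank F (LinearMap.range g ⊓ LinearMap.ker f : Submodule F V) =
        finrank F (LinearMap.range g) := by
  have h := (f.domRestrict (LinearMap.range g)).finrank_range_add_finrank_ker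
  have e1 : LinearMap.range (f.domRestrict (LinearMap.range g)) = LinearMap.range (f * g) := by
    rw [Module.End.mul_eq_comp, LinearMap.range_comp, LinearMap.range_domRestrict]
  have e2 : finrank F (LinearMap.ker (f.domRestrict (LinearMap.range g))) =
      finrank F (LinearMap.range g ⊓ LinearMap.ker f : Submodule F V) := by
    rw [← Submodule.finrank_map_subtype_eq (LinearMap.range g)
      (LinearMap.ker (f.domRestrict (LinearMap.range g)))]
    rw [LinearMap.ker_domRestrict, Submodule.map_comap_subtype]
  rw [e1, e2] at h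
  exact h

/-- An invariant non-degenerate plane. -/
def Planar (g : G) : Prop :=
  ∃ a c : V, B a c ≠ 0 ∧ g • a ∈ Submodule.span F {a, c} ∧ g • c ∈ Submodule.span F {a, c}

/-- A self-adjoint root of `X³ - X + b` moved by a constant of the prime field. -/
def Twisted (b : F) (g : G) : Prop :=
  ∃ θ : Module.End F V, SA θ ∧ (∀ x, θ (θ (θ x)) - θ x + b • x = 0) ∧
    ∃ i : F, i ^ 3 = i ∧ ∀ x : V, θ (g • x) = g • θ x + i • (g • x)

/-- One of the two. -/
def Good (b : F) (g : G) : Prop := Planar g ∨ Twisted b g

theorem good_neg {b : F} {g : G} (h : Good b g) : Good b (negOne * g) := by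
  rcases h with ⟨a, c, hac, ha, hc⟩ | ⟨θ, hθ, hp, i, hi, hg⟩
  · refine Or.inl ⟨a, c, hac, ?_, ?_⟩
    · rw [mul_smul, negOne_smul]; exact Submodule.neg_mem _ ha
    · rw [mul_smul, negOne_smul]; exact Submodule.neg_mem _ hc
  · refine Or.inr ⟨θ, hθ, hp, i, hi, fun x => ?_⟩
    rw [mul_smul, mul_smul, negOne_smul, negOne_smul, map_neg, hg, smul_neg, neg_add]

theorem planar_of_two {g : G} {U : Submodule F V} (hU : ∀ x ∈ U, g • x ∈ U)
    (hnd : ∀ z ∈ U, (∀ w ∈ U, B z w = 0) → z = 0) (h2 : finrank F U = 2) : Planar g := by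
  obtain ⟨a, ha, ha0⟩ := U.exists_mem_ne_zero_of_ne_bot (fun h => by rw [h, finrank_bot] at h2; omega)
  obtain ⟨c, hc, hac⟩ : ∃ c ∈ U, B a c ≠ 0 := by
    by_contra! h
    exact ha0 (hnd a ha h)
  have hli : LinearIndependent F ![a, c] := by
    rw [LinearIndependent.pair_iff]
    intro s t h
    have h1 := congrArg (fun z => B a z) h
    simp only [map_add, map_smul, B_self, smul_eq_mul, mul_zero, zero_add, map_zero] at h1
    have ht : t = 0 := (mul_eq_zero.1 h1).resolve_right hac
    subst ht
    rw [zero_smul, add_zero, smul_eq_zero] at h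
    exact ⟨h.resolve_right ha0, rfl⟩
  have hspan : Submodule.span F {a, c} = U := by
    refine Submodule.eq_of_le_of_finrank_eq (Submodule.span_le.2 ?_) ?_
    · simp [Set.insert_subset_iff, ha, hc]
    · rw [← Matrix.range_cons_cons_empty a c (![] : Fin 0 → V), finrank_span_eq_card hli, h2]
      rfl
  exact ⟨a, c, hac, hspan.symm ▸ hU a ha, hspan.symm ▸ hU c hc⟩

/-- An invariant non-degenerate subspace that is proper gives a plane. -/
theorem planar_of_sub {g : G} {U : Submodule F V} (hU : ∀ x ∈ U, g • x ∈ U)
    (hnd : ∀ z ∈ U, (∀ w ∈ U, B z w = 0) → z = 0) (h0 : U ≠ ⊥) (h6 : U ≠ ⊤) : Planar g := by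
  obtain ⟨k, hk⟩ := ClMax99.AltSim.even_finrank (B) sympBilin_isAlt U hnd
  have hpos := Submodule.one_le_finrank_iff.2 h0
  have hlt := Submodule.finrank_lt h6
  rw [finrank_V] at hlt
  by_cases h2 : finrank F U = 2
  · exact planar_of_two hU hnd h2
  have hd : IsCompl U ((B).orthogonal U) := by
    have hdis : Disjoint U ((B).orthogonal U) := Submodule.disjoint_def.2 fun z hz hzo =>
      hnd z hz fun w hw => by rw [B_swap, show B w z = 0 from hzo w hw, neg_zero]
    refine ⟨hdis, codisjoint_iff.2 (Submodule.eq_top_of_disjoint _ _ ?_ hdis)⟩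
    rw [LinearMap.BilinForm.finrank_orthogonal sympBilin_nondegenerate]
    omega
  refine planar_of_two (U := (B).orthogonal U) (fun x hx w hw => ?_) (fun z hz h => ?_) ?_
  · show B w (g • x) = 0
    have hinv : g⁻¹ • w ∈ U := by
      have hinj : Function.Injective (op g) := fun a c e => MulAction.injective g e
      have heq : U.map (op g) = U := Submodule.eq_of_le_of_finrank_eq
        (Submodule.map_le_iff_le_comap.2 hU)
        (LinearEquiv.finrank_eq (Submodule.equivMapOfInjective (op g) hinj U)).symm
      rw [← heq] at hw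
      obtain ⟨u, hu, rfl⟩ := hw
      rw [op_apply, inv_smul_smul]
      exact hu
    rw [← B_smul g⁻¹, inv_smul_smul]
    exact hx _ hinv
  · refine eq_zero_of_B fun y => ?_
    obtain ⟨u, hu, w, hw, rfl⟩ := Submodule.mem_sup.1
      (hd.sup_eq_top ▸ Submodule.mem_top : y ∈ U ⊔ (B).orthogonal U)
    rw [map_add, h w hw, add_zero, B_swap, show B u z = 0 from hz u hu, neg_zero]
  · rw [LinearMap.BilinForm.finrank_orthogonal sympBilin_nondegenerate, finrank_V]
    omega

end Cfsg.Agent.Cover98.Sp3
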